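import Groth.Agent.H8Props.AlgSpLci.Charts
import Groth.Agent.H8Props.KoszImm.SyntomicDescent
import Groth.Agent.H8Props.KoszImm.Descent
import Groth.Agent.H8Props.KoszImm.FibrewiseScheme
import Groth.Agent.H9Synt.Smooth

/-!
# Local complete intersection morphisms of algebraic spaces
-/

set_option autoImplicit false

universe u

open CategoryTheory CategoryTheory.Limits AlgebraicGeometry Opposite
open AlgSp Groth.Agent.H12AlgSp Groth.Agent.H8Props.KoszImm

namespace Groth.Agent.H8Props.AlgSpLci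

theorem isSyntomicMor_of_smooth {X Y : Scheme.{u}} (f : X ⟶ Y) [Smooth f] : Synt.IsSyntomicMor f := by
  intro x
  obtain ⟨W, hW, hxW, -⟩ := TopologicalSpace.Opens.isBasis_iff_nbhd.mp Y.isBasis_affineOpens
    (TopologicalSpace.Opens.mem_top (f x))
  obtain ⟨A, hA, hxA, hle⟩ := TopologicalSpace.Opens.isBasis_iff_nbhd.mp X.isBasis_affineOpens
    (show x ∈ f ⁻¹ᵁ W from hxW)
  refine ⟨⟨A, hA⟩, ⟨W, hW⟩, hle, hxA, ?_⟩
  algebraize [(f.appLE W A hle).hom]
  have : Algebra.Smooth Γ(Y, W) Γ(X, A) :=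
    RingHom.smooth_algebraMap.mp (HasRingHomProperty.appLE @Smooth f inferInstance ⟨W, hW⟩ ⟨A, hA⟩ hle)
  exact Groth.Agent.H9Synt.isSyntomic_of_smooth _ _

theorem isKoszulAt_of_smooth {X Y : Scheme.{u}} (f : X ⟶ Y) [Smooth f] (x : X) : Synt.IsKoszulAt f x :=
  ((isSyntomicMor_iff f).1 (isSyntomicMor_of_smooth f)).2 x

theorem chartLocal_lci : ChartLocal.{u} lci where
  comp := ⟨fun f g hf hg x => isKoszulAt_comp f g x (hf x) (hg _)⟩
  etale_le := fun _ _ f (_ : Etale f) x => isKoszulAt_of_smooth f x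
  of_postcomp f g (_ : Etale g) h x := isKoszulAt_of_comp_smooth f g x (h x)
  descends f g (_ : Etale f) _ h :=
    (forall_isKoszulAt_syntomic_comp_iff f (isSyntomicMor_of_smooth f) g).1 h

theorem lci_of_isPullback {X Y X' Y' : Scheme.{u}} {f : X ⟶ Y} {g : Y' ⟶ Y} {f' : X' ⟶ Y'} {g' : X' ⟶ X}
    (sq : IsPullback g' f' f g) (_ : Flat g) (h : lci f) : lci f' :=
  fun x' => isKoszulAt_baseChange f g f' g' sq x' (h _)

theorem lci_of_comp_smooth {X Y Z : Scheme.{u}} (f : X ⟶ Y) (g : Y ⟶ Z) (h : lci (f ≫ g)) (_ : Smooth g) :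
    lci f :=
  fun x => isKoszulAt_of_comp_smooth f g x (h x)

instance respectsIso_lci : MorphismProperty.RespectsIso (lci : MorphismProperty Scheme.{u}) :=
  MorphismProperty.RespectsIso.mk _
    (fun e f hf x => isKoszulAt_comp e.hom f x (isKoszulAt_of_smooth _ x) (hf _))
    (fun e f hf x => isKoszulAt_comp f e.hom x (hf x) (isKoszulAt_of_smooth _ _))

theorem isKoszulAt_restrict_iff {X Y : Scheme.{u}} (f : X ⟶ Y) (V : Y.Opens) (x : (f ⁻¹ᵁ V).toScheme) :
    Synt.IsKoszulAt (f ∣_ V) x ↔ Synt.IsKoszulAt f x.1 := by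
  refine Iff.trans ?_ (isKoszulAt_open_iff (f ⁻¹ᵁ V).ι f x)
  rw [← morphismRestrict_ι]
  exact ⟨isKoszulAt_comp_smooth _ _ x, isKoszulAt_of_comp_smooth _ _ x⟩

theorem lci_of_restrict {X Y : Scheme.{u}} (f : X ⟶ Y) (h : ∀ V : Y.affineOpens, lci (f ∣_ V.1)) : lci f := by
  intro x
  obtain ⟨V, hV, hxV, -⟩ := TopologicalSpace.Opens.isBasis_iff_nbhd.mp Y.isBasis_affineOpens
    (TopologicalSpace.Opens.mem_top (f x))
  exact (isKoszulAt_restrict_iff f V ⟨x, hxV⟩).1 (h ⟨V, hV⟩ ⟨x, hxV⟩)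

theorem lci_sigma {X Y : Scheme.{u}} {ι : Type u} (W : ι → Scheme.{u}) (g : ∀ i, W i ⟶ Y) (f : X ⟶ Y)
    (h : ∀ i, lci (pullback.snd f (g i))) : lci (pullback.snd f (Sigma.desc g)) := by
  intro z
  obtain ⟨i, w, hw⟩ : ∃ (i : ι) (w : W i), Sigma.ι W i w = pullback.snd f (Sigma.desc g) z :=
    (sigmaOpenCover W).exists_eq _
  have sq : IsPullback (pullback.fst (pullback.snd f (Sigma.desc g)) (Sigma.ι W i))
      (pullback.snd (pullback.snd f (Sigma.desc g)) (Sigma.ι W i)) (pullback.snd f (Sigma.desc g))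
      (Sigma.ι W i) := IsPullback.of_hasPullback _ _
  obtain ⟨p, hp, -⟩ := Scheme.Pullback.exists_preimage_pullback z w hw.symm
  have big := sq.paste_horiz (IsPullback.of_hasPullback f (Sigma.desc g))
  rw [Sigma.ι_desc] at big
  have h1 : lci (pullback.snd (pullback.snd f (Sigma.desc g)) (Sigma.ι W i)) := by
    rw [← big.isoPullback_hom_snd]
    exact ((lci : MorphismProperty Scheme.{u}).cancel_left_of_respectsIso _ _).2 (h i)
  have h2 := isKoszulAt_comp_smooth _ (Sigma.ι W i) p (h1 p)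
  rw [← sq.w, isKoszulAt_open_iff, hp] at h2
  exact h2

theorem lci_descend {X Y X' Y' : Scheme.{u}} (f : X ⟶ Y) (g : Y' ⟶ Y) (f' : X' ⟶ Y') (g' : X' ⟶ X)
    (_ : Flat g) (_ : Surjective g) (_ : QuasiCompact g) (sq : IsPullback g' f' f g) (h : lci f') : lci f :=
  fun x => forall_isKoszulAt_descend f g f' g' sq h x

variable {S : Scheme.{u}}

/-- Being lci near a point is being Koszul at one preimage in a chart. -/
theorem locPNear_lci_iff {F G : Sp S} (hF : IsAlgSpace F) {f : F ⟶ G} {U V : Over S}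
    {a : (yon S).obj U ⟶ F} {b : (yon S).obj V ⟶ G} {h : U ⟶ V} (ha : RepWith @Etale a)
    (hb : RepWith @Etale b) (w : a ≫ f = (yon S).map h ≫ b) (u : U.left) :
    LocPNear lci f (Points.ofPt a u) ↔ Synt.IsKoszulAt h.left u :=
  locPNear_iff chartLocal_lci (fun f x => Synt.IsKoszulAt f x) (fun _ => Iff.rfl)
    (fun e _ f x => isKoszulAt_open_iff e f x) (fun f => isOpen_koszul f) hF ha hb w u

theorem isLCIMor_of_comp_smooth {X Y Z : Sp S} (hZ : IsAlgSpace Z) {f : X ⟶ Y} {g : Y ⟶ Z}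
    (hg : LocP @Smooth g) (h : IsLCIMor (f ≫ g)) : IsLCIMor f :=
  locP_of_postcomp chartLocal_lci (fun _ _ _ f g h hg => lci_of_comp_smooth f g h hg) hZ h hg

theorem isLCIMor_isLocalOnBase_fpqc : IsLocalOnBase (IsFpqcCover (S := S)) IsLCIMor := by
  intro ι Y Yi g hY hYi hg X f hX Xi p q _ sq
  exact ⟨fun hf i => locP_of_isPullback_flat chartLocal_lci lci_of_isPullback (sq i) hX hY (hYi i) (hg.1 i) hf,
    fun hp => locP_of_fpqc lci lci_descend lci_sigma lci_of_restrict respectsIso_lci hY hYi hg sq hp⟩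

end Groth.Agent.H8Props.AlgSpLci
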