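import Groth.Agent.H12AlgSp.LocP
import Groth.Agent.H12AlgSp.OpenSub
import Groth.Agent.H12AlgSp.Presentation
import Groth.Agent.H13AlgSp.LocPDescent
import Groth.Agent.H12AlgSp.Charts
import Groth.Prelude.Def_AlgSpMor6

/-!
# Chart calculus for properties that are only stable under flat base change
-/

set_option autoImplicit false

universe u

open CategoryTheory CategoryTheory.Limits AlgebraicGeometry Opposite
open AlgSp Groth.Agent.H12AlgSp Groth.Agent.H13AlgSp

namespace Groth.Agent.H8Props.AlgSpLci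

/-- Properties of morphisms of schemes with a one chart criterion for algebraic spaces; no base change
is required. -/
structure ChartLocal (P : MorphismProperty Scheme.{u}) : Prop where
  comp : P.IsStableUnderComposition
  etale_le : (@Etale : MorphismProperty Scheme.{u}) ≤ P
  of_postcomp : ∀ {X Y Z : Scheme.{u}} (f : X ⟶ Y) (g : Y ⟶ Z), Etale g → P (f ≫ g) → P f
  descends : ∀ {X' X Y : Scheme.{u}} (f : X' ⟶ X) (g : X ⟶ Y), Etale f → Surjective f → P (f ≫ g) → P g

variable {S : Scheme.{u}} {P : MorphismProperty Scheme.{u}}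

/-- One chart diagram with surjective source chart suffices. -/
theorem locP_of_one_chart (hP : ChartLocal P) {F G : Sp S} {f : F ⟶ G} {U V : Over S}
    {a : (yon S).obj U ⟶ F} {b : (yon S).obj V ⟶ G} (h : U ⟶ V)
    (ha : RepWith @Etale a) (has : RepWith @Surjective a) (hb : RepWith @Etale b)
    (comm : a ≫ f = (yon S).map h ≫ b) (hh : P h.left) : LocP P f := by
  have := hP.comp
  intro U' V' a' b' h' ha' hb' comm'
  obtain ⟨W, t, k, sq⟩ := ha.rep a'
  obtain ⟨k, rfl⟩ := (yon S).map_surjective k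
  have ht : Etale t.left := ha.property a' _ t sq
  have hts : Surjective t.left := has.property a' _ t sq
  have hk : Etale k.left := ha'.property a ((yon S).map t) k sq.flip
  obtain ⟨R, r₁, r₂, sqR⟩ := hb.rep b'
  obtain ⟨r₂, rfl⟩ := (yon S).map_surjective r₂
  have h₁ : Etale r₁.left := hb.property b' _ r₁ sqR
  have h₂ : Etale r₂.left := hb'.property b ((yon S).map r₁) r₂ sqR.flip
  obtain ⟨r₀, hr₀₁, hr₀₂⟩ := sqR.exists_lift ((yon S).map (k ≫ h)) ((yon S).map (t ≫ h')) (by
    simp only [Functor.map_comp, Category.assoc, ← comm, ← comm']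
    rw [← Category.assoc, sq.w, Category.assoc])
  obtain ⟨r, rfl⟩ := (yon S).map_surjective r₀
  have e1 : r ≫ r₂ = k ≫ h := (yon S).map_injective (by rw [Functor.map_comp, hr₀₁])
  have e2 : r ≫ r₁ = t ≫ h' := (yon S).map_injective (by rw [Functor.map_comp, hr₀₂])
  refine hP.descends t.left h'.left ht hts ?_
  rw [← Over.comp_left, ← e2, Over.comp_left]
  refine P.comp_mem _ _ (hP.of_postcomp r.left r₂.left h₂ ?_) (hP.etale_le _ _ _ h₁)
  rw [← Over.comp_left, e1, Over.comp_left]
  exact P.comp_mem _ _ (hP.etale_le _ _ _ hk) hh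

theorem locP_of_etale (hP : ChartLocal P) {F G : Sp S} {f : F ⟶ G} (hf : IsEtaleMor f) : LocP P f :=
  fun _ _ a b h ha hb e => hP.etale_le _ _ _ (H12AlgSp.locP_etale_of_isEtaleMor hf a b h ha hb e)

theorem locP_comp (hP : ChartLocal P) {F G H : Sp S} {f : F ⟶ G} {g : G ⟶ H} (hF : IsAlgSpace F)
    (hG : IsAlgSpace G) (hH : IsAlgSpace H) (hf : LocP P f) (hg : LocP P g) : LocP P (f ≫ g) := by
  have := hP.comp
  obtain ⟨V, W, b, c, h₂, hb, hbs, hc, -, w₂⟩ := exists_chart hG hH g
  obtain ⟨U, p, hp, hps⟩ := (isAlgSpace_pullback hG.diag hF (IsAlgSpace.yon_obj V) f b).atlas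
  obtain ⟨h₁, hh₁⟩ := (yon S).map_surjective (p ≫ pullback.snd f b)
  let a := p ≫ pullback.fst f b
  have ha : RepWith @Etale a :=
    repWith_comp hp (repWith_of_isPullback (IsPullback.of_hasPullback f b).flip hb)
  have has : RepWith @Surjective a :=
    repWith_comp hps (repWith_of_isPullback (IsPullback.of_hasPullback f b).flip hbs)
  have w₁ : a ≫ f = (yon S).map h₁ ≫ b := by
    simp only [a, hh₁, Category.assoc, pullback.condition]
  refine locP_of_one_chart hP (h₁ ≫ h₂) ha has hc (b := c) ?_ ?_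
  · rw [← Category.assoc, w₁, Category.assoc, w₂, Functor.map_comp, Category.assoc]
  · rw [Over.comp_left]; exact P.comp_mem _ _ (hf a b h₁ ha hb w₁) (hg b c h₂ hb hc w₂)

/-- Cancellation: if `f ≫ g` has `Q` and `g` has `R`, then `f` has `P`, as soon as this holds for
schemes. -/
theorem locP_of_postcomp (hP : ChartLocal P) {Q R : MorphismProperty Scheme.{u}}
    (H : ∀ ⦃A B C : Scheme.{u}⦄ (f : A ⟶ B) (g : B ⟶ C), Q (f ≫ g) → R g → P f) {X Y Z : Sp S}
    (hZ : IsAlgSpace Z) {f : X ⟶ Y} {g : Y ⟶ Z} (h : LocP Q (f ≫ g)) (hg : LocP R g) : LocP P f := by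
  have := hP.comp
  obtain ⟨W, c, hc, hcs⟩ := hZ.atlas
  intro U V a b e ha hb w
  obtain ⟨T, t, k, sq⟩ := hc.rep (b ≫ g)
  obtain ⟨k, rfl⟩ := (yon S).map_surjective k
  have ht : Etale t.left := hc.property _ _ t sq
  have hts : Surjective t.left := hcs.property _ _ t sq
  obtain ⟨A, p, q, sqA⟩ : ∃ (A : Over S) (p : A ⟶ U) (q : A ⟶ T), IsPullback p q e t :=
    ⟨_, _, _, IsPullback.of_hasPullback e t⟩
  have sqA' := sqA.map (Over.forget S)
  have hp : Etale p.left := MorphismProperty.of_isPullback sqA'.flip ht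
  have hps : Surjective p.left := MorphismProperty.of_isPullback sqA'.flip hts
  refine hP.descends p.left e.left hp hps ?_
  rw [← Over.comp_left, sqA.w, Over.comp_left]
  refine P.comp_mem _ _ (H q.left k.left ?_ ?_) (hP.etale_le _ _ _ ht)
  · rw [← Over.comp_left]
    refine h ((yon S).map p ≫ a) c (q ≫ k) (repWith_comp ((repWith_yon_map_iff _ _).2 hp) ha) hc ?_
    have := (yon S).congr_map sqA.w
    simp only [Functor.map_comp, Category.assoc] at this ⊢
    rw [reassoc_of% w, reassoc_of% this, sq.w]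
  · refine hg ((yon S).map t ≫ b) c k (repWith_comp ((repWith_yon_map_iff _ _).2 ht) hb) hc ?_
    rw [Category.assoc, sq.w]

/-- A chart of `f` and a morphism of charts of the targets give a chart of a base change of `f`. -/
theorem exists_pullback_chart {F G F' G' : Sp S} {f : F ⟶ G} {f' : F' ⟶ G'} {k : F' ⟶ F} {l : G' ⟶ G}
    (sq : IsPullback k f' f l) {A B B' : Over S} {β : (yon S).obj B ⟶ G} (h : A ⟶ B)
    (α : (yon S).obj A ⟶ pullback f β) (hα : α ≫ pullback.snd f β = (yon S).map h)
    (j : B' ⟶ B) (l' : (yon S).obj B' ⟶ G') (hl : l' ≫ l = (yon S).map j ≫ β) :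
    ∃ a' : (yon S).obj (pullback h j) ⟶ F',
      a' ≫ f' = (yon S).map (pullback.snd h j) ≫ l' ∧
      a' ≫ k = (yon S).map (pullback.fst h j) ≫ α ≫ pullback.fst f β ∧
      ∀ (R : MorphismProperty Scheme.{u}) [R.IsStableUnderBaseChange] [R.IsStableUnderComposition],
        RepWith R α → RepWith R l' → RepWith R a' := by
  have sq₀ := IsPullback.of_hasPullback f β
  have sq'' := IsPullback.of_hasPullback f' l'
  have big : IsPullback (pullback.fst f' l' ≫ k) (pullback.snd f' l') f ((yon S).map j ≫ β) := by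
    rw [← hl]; exact sq''.paste_horiz sq
  let κ := sq₀.lift (pullback.fst f' l' ≫ k) (pullback.snd f' l' ≫ (yon S).map j)
    (by rw [Category.assoc (pullback.snd f' l')]; exact big.w)
  have sqκ : IsPullback κ (pullback.snd f' l') (pullback.snd f β) ((yon S).map j) :=
    IsPullback.of_right (by rw [sq₀.lift_fst]; exact big) (sq₀.lift_snd _ _ _) sq₀
  have sqA := (IsPullback.of_hasPullback h j).map (yon S)
  rw [← hα] at sqA
  let α' := sqκ.lift ((yon S).map (pullback.fst h j) ≫ α) ((yon S).map (pullback.snd h j))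
    (by rw [Category.assoc]; exact sqA.w)
  have h1 : IsPullback ((yon S).map (pullback.fst h j)) α' α κ :=
    IsPullback.of_bot (by rw [sqκ.lift_snd]; exact sqA) (sqκ.lift_fst _ _ _).symm sqκ
  refine ⟨α' ≫ pullback.fst f' l', ?_, ?_, fun R _ _ h2 h3 => ?_⟩
  · rw [Category.assoc, sq''.w, ← Category.assoc, sqκ.lift_snd]
  · rw [Category.assoc, ← sq₀.lift_fst (pullback.fst f' l' ≫ k) (pullback.snd f' l' ≫ (yon S).map j),
      ← Category.assoc α', sqκ.lift_fst, Category.assoc]
    rw [Category.assoc (pullback.snd f' l')]; exact big.w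
  · exact repWith_comp (repWith_of_isPullback h1 h2) (repWith_of_isPullback sq''.flip h3)

/-- The canonical lift of a chart diagram to the fibre product. -/
theorem exists_chart_lift {F G : Sp S} {f : F ⟶ G} {U V : Over S} {a : (yon S).obj U ⟶ F}
    {b : (yon S).obj V ⟶ G} {h : U ⟶ V} (ha : RepWith @Etale a) (hb : RepWith @Etale b)
    (w : a ≫ f = (yon S).map h ≫ b) :
    ∃ α : (yon S).obj U ⟶ pullback f b, RepWith @Etale α ∧ α ≫ pullback.fst f b = a ∧
      α ≫ pullback.snd f b = (yon S).map h := by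
  have sq := IsPullback.of_hasPullback f b
  refine ⟨sq.lift a ((yon S).map h) w, ?_, sq.lift_fst _ _ _, sq.lift_snd _ _ _⟩
  exact H13AlgSp.repWith_etale_of_comp (repWith_of_isPullback sq.flip hb) (by rwa [sq.lift_fst])

/-- Base change along a flat morphism, for a property stable under flat base change. -/
theorem locP_of_isPullback_flat (hP : ChartLocal P)
    (hbc : ∀ {X Y X' Y' : Scheme.{u}} {f : X ⟶ Y} {g : Y' ⟶ Y} {f' : X' ⟶ Y'} {g' : X' ⟶ X},
      IsPullback g' f' f g → Flat g → P f → P f')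
    {X Y X' Y' : Sp S} {f : X ⟶ Y} {g : Y' ⟶ Y} {fst : X' ⟶ X} {f' : X' ⟶ Y'}
    (sq : IsPullback fst f' f g) (hX : IsAlgSpace X) (hY : IsAlgSpace Y) (hY' : IsAlgSpace Y')
    (hg : LocP @Flat g) (hf : LocP P f) : LocP P f' := by
  obtain ⟨V', V, b', b, j, hb', hbs', hb, hbs, wg⟩ := exists_chart hY' hY g
  obtain ⟨U, α, hα, hαs⟩ := (isAlgSpace_pullback hY.diag hX (IsAlgSpace.yon_obj V) f b).atlas
  obtain ⟨h, hh⟩ := (yon S).map_surjective (α ≫ pullback.snd f b)
  have hPh : P h.left := hf (α ≫ pullback.fst f b) b h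
    (repWith_comp hα (repWith_of_isPullback (IsPullback.of_hasPullback f b).flip hb)) hb
    (by rw [hh, Category.assoc, Category.assoc, pullback.condition])
  obtain ⟨a', w', -, hR⟩ := exists_pullback_chart sq h α hh.symm j b' wg
  exact locP_of_one_chart hP (pullback.snd h j) (hR @Etale hα hb') (hR @Surjective hαs hbs') hb' w'
    (hbc ((IsPullback.of_hasPullback h j).map (Over.forget S)) (hg b' b j hb' hb wg) hPh)

/-- Restriction of a chart diagram along an open immersion of the scheme. -/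
theorem repWith_etale_precomp {F : Sp S} {U U' : Over S} (o : U' ⟶ U) [Etale o.left]
    {a : (yon S).obj U ⟶ F} (ha : RepWith @Etale a) : RepWith @Etale ((yon S).map o ≫ a) :=
  repWith_comp ((repWith_yon_map_iff _ _).2 ‹Etale o.left›) ha

/-- For a property that is Zariski local on the source and given pointwise by `Q`, having it near a
point is having it at one preimage in a chart. -/
theorem locPNear_iff (hP : ChartLocal P)
    (Q : ∀ {X Y : Scheme.{u}}, (X ⟶ Y) → X → Prop)
    (hPQ : ∀ {X Y : Scheme.{u}} (f : X ⟶ Y), P f ↔ ∀ x, Q f x)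
    (hopen : ∀ {X X' Y : Scheme.{u}} (e : X' ⟶ X) [IsOpenImmersion e] (f : X ⟶ Y) (x : X'),
      Q (e ≫ f) x ↔ Q f (e x))
    (hQo : ∀ {X Y : Scheme.{u}} (f : X ⟶ Y), IsOpen {x | Q f x})
    {F G : Sp S} (hF : IsAlgSpace F) {f : F ⟶ G} {U V : Over S} {a : (yon S).obj U ⟶ F}
    {b : (yon S).obj V ⟶ G} {h : U ⟶ V} (ha : RepWith @Etale a) (hb : RepWith @Etale b)
    (w : a ≫ f = (yon S).map h ≫ b) (u : U.left) :
    LocPNear P f (Points.ofPt a u) ↔ Q h.left u := by
  constructor
  · rintro ⟨W, j, hj, hu, hW⟩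
    obtain ⟨O, o, e, sq⟩ := hj.rep a
    have ho : IsOpenImmersion o.left := hj.property a _ o sq
    obtain ⟨v, rfl⟩ : u ∈ Set.range o.left := by rwa [← preimage_ofPt_range sq]
    have he : RepWith @Etale e := repWith_of_isPullback sq.flip ha
    have hd := hW e b (o ≫ h) he hb (by
      rw [← Category.assoc, sq.w, Category.assoc, w, Functor.map_comp, Category.assoc])
    rw [← hopen o.left h.left v]
    exact (hPQ _).1 hd v
  · intro hu
    let O : U.left.Opens := ⟨{x | Q h.left x}, hQo h.left⟩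
    let a₀ := (yon S).map (openIncl U O) ≫ a
    have : IsOpenImmersion (openIncl U O).left := inferInstanceAs (IsOpenImmersion O.ι)
    have ha₀ : RepWith @Etale a₀ := repWith_etale_precomp (openIncl U O) ha
    obtain ⟨W, j, -, hj, hr⟩ := exists_open_subspace hF
      ((isOpenMap_ofPt_of_repWith etale_le_universallyOpen ha₀).isOpen_range)
    obtain ⟨a', haj, he, hs, -⟩ := exists_factor_presentation ha₀ hj hr
    refine ⟨W, j, hj, hr.ge ⟨(⟨u, hu⟩ : O), ?_⟩, locP_of_one_chart hP (openIncl U O ≫ h) he hs hb ?_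
      ((hPQ _).2 fun x => (hopen (openIncl U O).left h.left x).2 x.2)⟩
    · exact ofPt_map _ a _
    · rw [← Category.assoc, haj, Category.assoc, w, Functor.map_comp, Category.assoc]

/-- A scheme morphism has `P` etale locally exactly when it has `P`. -/
theorem locP_yon_map_iff (hP : ChartLocal P) {U V : Over S} (g : U ⟶ V) :
    LocP P ((yon S).map g) ↔ P g.left :=
  ⟨locP_yon_map, fun h => locP_of_one_chart hP g (repWith_id _ U) (repWith_id _ U) (repWith_id _ V)
    (by simp) h⟩

/-- Descent along an fpqc covering of the base. -/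
theorem locP_of_fpqc (P : MorphismProperty Scheme.{u})
    (hdesc : ∀ {X Y X' Y' : Scheme.{u}} (f : X ⟶ Y) (g : Y' ⟶ Y) (f' : X' ⟶ Y') (g' : X' ⟶ X),
      Flat g → Surjective g → QuasiCompact g → IsPullback g' f' f g → P f' → P f)
    (hsigma : ∀ {X Y : Scheme.{u}} {ι : Type u} (Wi : ι → Scheme.{u}) (g : ∀ i, Wi i ⟶ Y) (f : X ⟶ Y),
      (∀ i, P (pullback.snd f (g i))) → P (pullback.snd f (Sigma.desc g)))
    (htarget : ∀ {X Y : Scheme.{u}} (f : X ⟶ Y),
      (∀ V : Y.affineOpens, P (f ∣_ V.1)) → P f)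
    (hiso : P.RespectsIso)
    {ι : Type u} {Y : Sp S} {Yi : ι → Sp S} {g : ∀ i, Yi i ⟶ Y} (hY : IsAlgSpace Y)
    (hYi : ∀ i, IsAlgSpace (Yi i)) (hg : IsFpqcCover Yi g) {X : Sp S} {f : X ⟶ Y} {Xi : ι → Sp S}
    {p : ∀ i, Xi i ⟶ Yi i} {q : ∀ i, Xi i ⟶ X} (sq : ∀ i, IsPullback (q i) (p i) f (g i))
    (hp : ∀ i, LocP P (p i)) : LocP P f := by
  have := hiso
  have key : ∀ ⦃U V : Over S⦄ (a : (yon S).obj U ⟶ X) (b : (yon S).obj V ⟶ Y) (h : U ⟶ V),
      IsAffine V.left → RepWith @Etale a → RepWith @Etale b → a ≫ f = (yon S).map h ≫ b → P h.left := by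
    intro U V a b h hV ha hb w
    obtain ⟨α, hα, -, hαh⟩ := exists_chart_lift ha hb w
    obtain ⟨m, W, c, haff, hflat, hsurj, hlift⟩ := hg.2 V hV b
    choose i l hl using hlift
    have hR := fun j => isAlgSpace_pullback hY.diag (IsAlgSpace.yon_obj V) (hYi (i j)) b (g (i j))
    choose T r hr hrs using fun j => (hR j).atlas
    choose t ht using fun j => (yon S).map_surjective (r j ≫ pullback.fst b (g (i j)))
    let s := fun j => r j ≫ pullback.snd b (g (i j))
    have hs : ∀ j, RepWith @Etale (s j) := fun j =>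
      repWith_comp (hr j) (repWith_of_isPullback (IsPullback.of_hasPullback b (g (i j))) hb)
    have ws : ∀ j, s j ≫ g (i j) = (yon S).map (t j) ≫ b := fun j => by
      rw [ht]; simp only [s, Category.assoc, pullback.condition]
    have htf : ∀ j, Flat (t j).left := fun j => hg.1 (i j) (s j) b (t j) (hs j) hb (ws j)
    -- each piece of the finite family is covered by finitely many affine opens of `T j`
    have hfin : ∀ j, ∃ O : Finset (T j).left.affineOpens, ∀ w : (W j).left, ∃ U ∈ O, ∃ x ∈ U.1,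
        (t j).left x = (c j).left w := by
      intro j
      have := haff j
      let L := (IsPullback.of_hasPullback b (g (i j))).lift ((yon S).map (c j)) (l j) (hl j).symm
      obtain ⟨W', w₁, w₂, sqW⟩ := (hrs j).rep L
      obtain ⟨w₂, rfl⟩ := (yon S).map_surjective w₂
      have h1 : Etale w₁.left := (hr j).property L _ w₁ sqW
      have h2 : Surjective w₁.left := (hrs j).property L _ w₁ sqW
      have e : w₂ ≫ t j = w₁ ≫ c j := (yon S).map_injective (by
        rw [Functor.map_comp, ht, ← Category.assoc, sqW.w, Category.assoc, Functor.map_comp,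
          IsPullback.lift_fst])
      obtain ⟨O, hO⟩ := (isCompact_univ (X := (W j).left)).elim_finite_subcover
        (fun U : (T j).left.affineOpens => w₁.left '' (w₂.left ⁻¹ᵁ U.1 : W'.left.Opens))
        (fun U => w₁.left.isOpenMap _ (w₂.left ⁻¹ᵁ U.1).2) (fun w _ => by
          obtain ⟨w', rfl⟩ := w₁.left.surjective w
          obtain ⟨U, hU, hwU, -⟩ := TopologicalSpace.Opens.isBasis_iff_nbhd.mp
            (T j).left.isBasis_affineOpens (TopologicalSpace.Opens.mem_top (w₂.left w'))
          exact Set.mem_iUnion.2 ⟨⟨U, hU⟩, w', hwU, rfl⟩)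
      refine ⟨O, fun w => ?_⟩
      obtain ⟨U, hUO, w', hw', rfl⟩ := Set.mem_iUnion₂.1 (hO (Set.mem_univ w))
      exact ⟨U, hUO, w₂.left w', hw', by
        rw [← Scheme.Hom.comp_apply, ← Over.comp_left, e, Over.comp_left, Scheme.Hom.comp_apply]⟩
    choose O hO using hfin
    let κ : Type u := ULift.{u} (Σ j : Fin m, O j)
    let C : κ → Scheme.{u} := fun k => k.down.2.1.1
    have : ∀ k, IsAffine (C k) := fun k => k.down.2.1.2
    have : Finite κ := inferInstanceAs (Finite (ULift _))
    let γ : ∀ k, C k ⟶ V.left := fun k => k.down.2.1.1.ι ≫ (t k.down.1).left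
    have : IsAffine V.left := hV
    have hq1 : Flat (Sigma.desc γ) := IsZariskiLocalAtSource.sigmaDesc fun k =>
      (inferInstance : Flat (k.down.2.1.1.ι ≫ (t k.down.1).left))
    have hq2 : Surjective (Sigma.desc γ) := ⟨fun v => by
      obtain ⟨j, w, rfl⟩ := hsurj v
      obtain ⟨U, hU, x, hx, hxw⟩ := hO j w
      refine ⟨Sigma.ι C ⟨j, U, hU⟩ ⟨x, hx⟩, ?_⟩
      rw [← Scheme.Hom.comp_apply, Sigma.ι_desc]
      exact hxw⟩
    have hq3 : QuasiCompact (Sigma.desc γ) :=
      (HasAffineProperty.iff_of_isAffine (P := @QuasiCompact)).2 inferInstance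
    refine hdesc h.left (Sigma.desc γ) _ _ hq1 hq2 hq3 (IsPullback.of_hasPullback _ _) (hsigma C γ h.left ?_)
    intro k
    let o : openOver (T k.down.1) k.down.2.1.1 ⟶ T k.down.1 := openIncl _ _
    have : IsOpenImmersion o.left := inferInstanceAs (IsOpenImmersion k.down.2.1.1.ι)
    have h1 : RepWith @Etale ((yon S).map o ≫ s k.down.1) := repWith_etale_precomp o (hs _)
    obtain ⟨a', w', -, hR'⟩ := exists_pullback_chart (sq (i k.down.1)) h α hαh (o ≫ t k.down.1)
      ((yon S).map o ≫ s k.down.1) (by rw [Category.assoc, ws, Functor.map_comp, Category.assoc])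
    have h2 := hp _ a' _ (pullback.snd h (o ≫ t k.down.1)) (hR' @Etale hα h1) h1 w'
    have h3 := ((IsPullback.of_hasPullback h (o ≫ t k.down.1)).map (Over.forget S))
    change P (pullback.snd ((Over.forget S).map h) ((Over.forget S).map (o ≫ t k.down.1)))
    rw [← P.cancel_left_of_respectsIso h3.isoPullback.hom, h3.isoPullback_hom_snd]
    exact h2
  intro U V a b h ha hb w
  refine htarget h.left fun A => ?_
  obtain ⟨α, hα, hαa, hαh⟩ := exists_chart_lift ha hb w
  let o : openOver V A.1 ⟶ V := openIncl V A.1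
  have : IsOpenImmersion o.left := inferInstanceAs (IsOpenImmersion A.1.ι)
  have hbo : RepWith @Etale ((yon S).map o ≫ b) := repWith_etale_precomp o hb
  have sq' := (IsPullback.of_hasPullback h o).map (Over.forget S)
  have : IsOpenImmersion (pullback.fst h o).left :=
    MorphismProperty.of_isPullback sq'.flip (inferInstanceAs (IsOpenImmersion o.left))
  have h1 := key ((yon S).map (pullback.fst h o) ≫ a) ((yon S).map o ≫ b) (pullback.snd h o) A.2
    (repWith_etale_precomp _ ha) hbo (by
      rw [Category.assoc, w, ← Category.assoc, ← Category.assoc, ← Functor.map_comp, ← Functor.map_comp,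
        pullback.condition])
  have h4 : IsPullback (h.left ⁻¹ᵁ A.1).ι (h.left ∣_ A.1) h.left A.1.ι :=
    (isPullback_morphismRestrict h.left A.1).flip
  rw [← h4.isoIsPullback_hom_snd _ _ sq']
  exact (P.cancel_left_of_respectsIso _ _).2 h1

end Groth.Agent.H8Props.AlgSpLci
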