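import Groth.Agent.H8Props.AlgSpLci.Lci
import Groth.Agent.H14AlgSt.LocQ2
import Groth.Agent.H14AlgSt.DiagLFT

/-!
# Local complete intersection morphisms are smooth local on source and target
-/

set_option autoImplicit false
set_option linter.style.haveILetI false

universe u

open CategoryTheory CategoryTheory.Limits AlgebraicGeometry Opposite
open AlgSp Groth.Agent.H12AlgSp Groth.Agent.H8Props.KoszImm

namespace Groth.Agent.H8Props.AlgSpLci

variable {S : Scheme.{u}}

theorem locP_lci_of_smooth {F G : Sp S} {f : F ⟶ G} (hf : LocP @Smooth f) : IsLCIMor f :=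
  H12AlgSp.locP_mono (fun _ _ g (_ : Smooth g) x => isKoszulAt_of_smooth g x) hf

theorem isLocalOnSource_lci : IsLocalOnSource (IsSmCover (S := S)) IsLCIMor := by
  intro ι X Xi g hX hXi hg Y f hY
  refine ⟨fun hf i => locP_comp chartLocal_lci (hXi i) hX hY (locP_lci_of_smooth (hg.1 i)) hf,
    fun hgf => ?_⟩
  intro U V a b h ha hb w
  -- a family of smooth maps covering the chart
  have hcov : ∀ x : U.left, ∃ (T : Scheme.{u}) (t : T ⟶ U.left), Smooth t ∧ x ∈ Set.range t ∧
      lci (t ≫ h.left) := by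
    intro x
    obtain ⟨i, y, hy⟩ := hg.2 (Points.ofPt a x)
    have sq := IsPullback.of_hasPullback (g i) a
    obtain ⟨T, r, hr, hrs⟩ := (isAlgSpace_pullback hX.diag (hXi i) (IsAlgSpace.yon_obj U) (g i) a).atlas
    obtain ⟨t, ht⟩ := (yon S).map_surjective (r ≫ pullback.snd (g i) a)
    have hs : RepWith @Etale (r ≫ pullback.fst (g i) a) :=
      repWith_comp hr (repWith_of_isPullback sq.flip ha)
    have wt : (r ≫ pullback.fst (g i) a) ≫ g i = (yon S).map t ≫ a := by
      rw [ht, Category.assoc, Category.assoc, pullback.condition]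
    obtain ⟨z, -, hz⟩ := exists_point_of_isPullback sq y (Points.ofScheme U x)
      (by rw [hy, Points.ofPt_eq_map_ofScheme])
    obtain ⟨τ, rfl⟩ := surjective_ofPt_of_repWith le_rfl hrs z
    refine ⟨T.left, t.left, hg.1 i _ a t hs ha wt, ⟨τ, (Points.schemeEquiv U).injective ?_⟩, ?_⟩
    · refine Eq.trans ?_ hz
      rw [Points.map_ofPt, ← ht, ← Category.comp_id ((yon S).map t), ofPt_map]
      rfl
    · rw [← Over.comp_left]
      exact hgf i _ b (t ≫ h) hs hb (by
        rw [← Category.assoc, wt, Category.assoc, w, Functor.map_comp, Category.assoc])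
  haveI : LocallyOfFiniteType h.left := H13Flat.locallyOfFiniteType_of_fppf_covering h.left fun x => by
    obtain ⟨T, t, hts, hx, hl⟩ := hcov x
    exact ⟨T, t, inferInstance, inferInstance, hx, locallyOfFiniteType_of_isKoszulAt _ hl⟩
  intro x
  obtain ⟨T, t, hts, ⟨τ, rfl⟩, hl⟩ := hcov x
  exact isKoszulAt_of_syntomic_comp t (isSyntomicMor_of_smooth t) h.left τ (hl τ)

theorem smLocal_lci : IsSmoothLocalST (IsLCIMor (S := S)) := by
  refine Groth.Agent.H13AlgSp.LocalST.mk_of_local isLocalOnSource_lci (fun ι Y Yi g hY hYi hg => ?_)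
    fun X Y Z hX hY hZ f g hf hg => locP_comp chartLocal_lci hX hY hZ hf (locP_lci_of_smooth hg)
  exact H14AlgSt.localFppf_of_fpqc isLCIMor_isLocalOnBase_fpqc Yi g hY hYi
    ⟨fun i => ⟨H12AlgSp.locP_mono H14AlgSt.smooth_le_flat (hg.1 i),
      H12AlgSp.locP_mono H14AlgSt.smooth_le_lfp (hg.1 i)⟩, hg.2⟩

theorem isLCIMor_yon_iff {U V : Over S} (c : U ⟶ V) : IsLCIMor ((yon S).map c) ↔ lci c.left :=
  locP_yon_map_iff chartLocal_lci c

end Groth.Agent.H8Props.AlgSpLci
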